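import Mathlib.Algebra.Group.Subgroup.Pointwise
import Mathlib.GroupTheory.SpecificGroups.Cyclic
import Mathlib.GroupTheory.Sylow

set_option autoImplicit false
open scoped Pointwise

namespace Cfsg.Agent.BC85

variable {G : Type*} [Group G]

theorem mem_normalizer_iff_conj_smul {H : Subgroup G} {g : G} :
    g ∈ Subgroup.normalizer (H : Set G) ↔ MulAut.conj g • H = H :=
  Subgroup.mem_normalizer_iff_map_conj_eq

theorem conj_smul_self_of_mem_normalizer {H : Subgroup G} {g : G}
    (hg : g ∈ Subgroup.normalizer (H : Set G)) : MulAut.conj g • H = H :=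
  mem_normalizer_iff_conj_smul.1 hg

theorem card_subgroupOf {H K : Subgroup G} (h : H ≤ K) :
    Nat.card (H.subgroupOf K) = Nat.card H :=
  Nat.card_congr (Subgroup.subgroupOfEquivOfLe h).toEquiv

/-- In a finite cyclic group two subgroups of equal order coincide. -/
theorem eq_of_card_eq_of_le_cyclic {P A B : Subgroup G} [Finite P] (hP : IsCyclic P)
    (hA : A ≤ P) (hB : B ≤ P) (h : Nat.card A = Nat.card B) : A = B := by
  have h2 : Nat.card (A.subgroupOf P) = Nat.card (B.subgroupOf P) := by
    rw [card_subgroupOf hA, card_subgroupOf hB, h]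
  have key : ∀ H : Subgroup P, ∀ x : P, x ∈ H ↔ x ^ Nat.card H = 1 := by
    intro H x
    classical
    haveI := Fintype.ofFinite P
    constructor
    · intro hx
      exact orderOf_dvd_iff_pow_eq_one.1 (H.orderOf_dvd_natCard hx)
    · intro hx
      have hpos : 0 < Nat.card H := Nat.card_pos
      have hsub : (Finset.univ.filter fun y : P => y ∈ H) ⊆
          Finset.univ.filter fun y : P => y ^ Nat.card H = 1 := by
        intro y hy
        simp only [Finset.mem_filter, Finset.mem_univ, true_and] at hy ⊢
        exact orderOf_dvd_iff_pow_eq_one.1 (H.orderOf_dvd_natCard hy)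
      have hle := IsCyclic.card_pow_eq_one_le (α := P) hpos
      have heq := Finset.eq_of_subset_of_card_le hsub (le_trans hle (le_of_eq (by
        rw [Nat.card_eq_fintype_card]
        exact Fintype.card_subtype _)))
      have : x ∈ Finset.univ.filter fun y : P => y ^ Nat.card H = 1 :=
        Finset.mem_filter.2 ⟨Finset.mem_univ _, hx⟩
      rw [← heq] at this
      simpa using this
  have h3 : A.subgroupOf P = B.subgroupOf P := by
    ext x
    rw [key, key, h2]
  calc A = (A.subgroupOf P).map P.subtype := (Subgroup.map_subgroupOf_eq_of_le hA).symm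
    _ = B := by rw [h3, Subgroup.map_subgroupOf_eq_of_le hB]

end Cfsg.Agent.BC85
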