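import Cfsg.Agent.BC85.Contribution

/-!
# Consequences of the contribution matrix: Brauer-Feit bounds
-/

set_option autoImplicit false

namespace Cfsg.Agent.BC85

open BlocksCore BlocksDefect

variable {G : Type*} [Group G] [Finite G] {p : ℕ} {M : Ideal Cfsg.AlgInt}

omit [Finite G] in
theorem finsum_block {R : Type*} [AddCommMonoid R] (B : Set (Cfsg.IrrCharacter G)) [Fintype B]
    (f : Cfsg.IrrCharacter G → R) : ∑ᶠ χ ∈ B, f χ = ∑ χ : B, f χ := by
  rw [← finsum_set_coe_eq_finsum_mem, finsum_eq_sum_of_fintype]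

variable [Fact p.Prime] {B : Set (Cfsg.IrrCharacter G)}

open Finset in
/-- The numerical content of the contribution matrix. -/
theorem row_facts {ι : Type*} [Fintype ι] (p : ℕ) (hp : p.Prime) (d : ℕ) (h : ι → ℕ)
    (m : ι → ι → ℤ) (hs : ∀ a b, m a b = m b a)
    (hi : ∀ a c, ∑ b, m a b * m b c = (p : ℤ) ^ d * m a c)
    (hd : ∀ a b, (p : ℤ) ^ h a ∣ m a b)
    (hu : ∀ a b, h b = 0 → ¬ (p : ℤ) ^ (h a + 1) ∣ m a b) {o : ι} (ho : h o = 0) :
    (∀ a, ∑ b, m a b ^ 2 = (p : ℤ) ^ d * m a a) ∧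
    (∀ a, 1 ≤ m a a) ∧
    (∀ b, ((p : ℤ) ^ h b) ^ 2 ≤ m o b ^ 2) := by
  classical
  have h1 : ∀ a, ∑ b, m a b ^ 2 = (p : ℤ) ^ d * m a a := fun a => by
    rw [← hi a a]
    exact Finset.sum_congr rfl fun b _ => by rw [sq, hs b a]
  have hne : ∀ b, m o b ≠ 0 := fun b h0 => hu b o ho (by rw [hs, h0]; exact dvd_zero _)
  refine ⟨h1, fun a => ?_, fun b => ?_⟩
  · have hpos : 0 < ∑ b, m a b ^ 2 := by
      refine lt_of_lt_of_le ?_ (Finset.single_le_sum (fun b _ => sq_nonneg (m a b)) (Finset.mem_univ o))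
      have := hne a
      rw [hs] at this
      positivity
    rw [h1] at hpos
    by_contra hle
    have : (p : ℤ) ^ d * m a a ≤ 0 :=
      mul_nonpos_of_nonneg_of_nonpos (by positivity) (by omega)
    omega
  · obtain ⟨k, hk⟩ := hd b o
    rw [hs o b, hk]
    have hk0 : k ≠ 0 := fun h0 => hne b (by rw [hs, hk, h0, mul_zero])
    have : 1 ≤ k ^ 2 := by
      have : 0 < k ^ 2 := by positivity
      omega
    rw [mul_pow]
    exact le_mul_of_one_le_right (sq_nonneg _) this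

/-- Brauer-Feit: the bound on the sum of `p^(2 height)`. -/
theorem sum_pow_height_le (hM : Cfsg.IsPModular p M) (hB : Cfsg.IsPBlock M B) :
    ∑ᶠ χ ∈ B, p ^ (2 * Cfsg.blockHeight p B (χ : G → ℂ)) ≤
      (p ^ Cfsg.blockDefect p B) ^ 2 / 4 + 1 := by
  classical
  haveI := Fintype.ofFinite G
  haveI := finite_irr (G := G)
  haveI := Fintype.ofFinite B
  obtain ⟨m, -, hs, hi, hd, hu, -⟩ := exists_matrix hM hB
  obtain ⟨θ, hθ, hθ0⟩ := exists_height_zero hM hB
  set d := Cfsg.blockDefect p B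
  obtain ⟨h1, h2, h3⟩ := row_facts p hM.1 d
    (fun χ : B => Cfsg.blockHeight p B ((χ : Cfsg.IrrCharacter G) : G → ℂ)) m hs hi hd hu
    (o := ⟨θ, hθ⟩) hθ0
  set o : B := ⟨θ, hθ⟩
  rw [finsum_block]
  set x := m o o
  set n : ℤ := (p : ℤ) ^ d
  have hsum : ((∑ χ : B, p ^ (2 * Cfsg.blockHeight p B ((χ : Cfsg.IrrCharacter G) : G → ℂ)) : ℕ) : ℤ)
      ≤ 1 + x * (n - x) := by
    push_cast
    have hrow := h1 o
    rw [← Finset.add_sum_erase _ _ (Finset.mem_univ o)] at hrow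
    rw [← Finset.add_sum_erase _ _ (Finset.mem_univ o)]
    have hrest : ∑ b ∈ Finset.univ.erase o,
        (p : ℤ) ^ (2 * Cfsg.blockHeight p B ((b : Cfsg.IrrCharacter G) : G → ℂ)) ≤
        ∑ b ∈ Finset.univ.erase o, m o b ^ 2 :=
      Finset.sum_le_sum fun b _ => by rw [mul_comm 2, pow_mul]; exact h3 b
    rw [hθ0]
    simp only [mul_zero, pow_zero]
    linarith [show x * (n - x) = n * x - x ^ 2 by ring]
  have hq : x * (n - x) * 4 ≤ n ^ 2 := by nlinarith [sq_nonneg (n - 2 * x)]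
  have hdiv : x * (n - x) ≤ (n ^ 2) / 4 := (Int.le_ediv_iff_mul_le (by norm_num)).2 hq
  have : ((((p ^ d) ^ 2 / 4 + 1 : ℕ)) : ℤ) = n ^ 2 / 4 + 1 := by
    simp only [n]; push_cast; rfl
  exact_mod_cast (hsum.trans (by linarith)).trans this.ge

/-- Brauer-Feit: the height bound and the bound when some height is positive. -/
theorem height_bound (hM : Cfsg.IsPModular p M) (hB : Cfsg.IsPBlock M B) :
    ((∃ χ ∈ B, 0 < Cfsg.blockHeight p B (χ : G → ℂ)) →
      2 * Nat.card B ≤ p ^ (2 * Cfsg.blockDefect p B - 2)) ∧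
    ∀ χ ∈ B, 0 < Cfsg.blockHeight p B (χ : G → ℂ) →
      Cfsg.blockHeight p B (χ : G → ℂ) + 2 ≤ Cfsg.blockDefect p B := by
  classical
  haveI := Fintype.ofFinite G
  haveI := finite_irr (G := G)
  haveI := Fintype.ofFinite B
  obtain ⟨m, -, hs, hi, hd, hu, hp'⟩ := exists_matrix hM hB
  obtain ⟨θ, hθ, hθ0⟩ := exists_height_zero hM hB
  set d := Cfsg.blockDefect p B
  set h : B → ℕ := fun χ => Cfsg.blockHeight p B ((χ : Cfsg.IrrCharacter G) : G → ℂ)
  set o : B := ⟨θ, hθ⟩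
  obtain ⟨h1, h2, h3⟩ := row_facts p hM.1 d h m hs hi hd hu (o := o) hθ0
  set n : ℤ := (p : ℤ) ^ d
  have hp1 : (1 : ℤ) < p := by exact_mod_cast hM.1.one_lt
  -- basic facts about a row of positive height
  have hrow : ∀ a : B, 0 < h a → (p : ℤ) ^ (h a + 1) ≤ m a a ∧ m a a < n := by
    intro a ha
    have hdv : (p : ℤ) ^ (h a + 1) ∣ m a a := hp' a a ha
    refine ⟨Int.le_of_dvd (by linarith [h2 a]) hdv, ?_⟩
    have hao : a ≠ o := fun he => by rw [he] at ha; exact ha.ne' hθ0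
    have hne : m a o ≠ 0 := fun h0 => hu a o hθ0 (by rw [h0]; exact dvd_zero _)
    have hsum : m a a ^ 2 + m a o ^ 2 ≤ ∑ b, m a b ^ 2 := by
      rw [← Finset.sum_pair hao (f := fun b => m a b ^ 2)]
      exact Finset.sum_le_univ_sum_of_nonneg fun b => sq_nonneg _
    rw [h1 a] at hsum
    have : 0 < m a o ^ 2 := by positivity
    by_contra hge
    push Not at hge
    nlinarith [h2 a, mul_le_mul_of_nonneg_left hge (by linarith [h2 a] : (0 : ℤ) ≤ m a a)]
  have hbound : ∀ a : B, 0 < h a → h a + 2 ≤ d := by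
    intro a ha
    obtain ⟨h4, h5⟩ := hrow a ha
    have : p ^ (h a + 1) < p ^ d :=
      Int.ofNat_lt.1 (by push_cast; exact h4.trans_lt h5)
    have := (Nat.pow_lt_pow_iff_right hM.1.one_lt).1 this
    omega
  refine ⟨?_, fun χ hχ hpos => hbound ⟨χ, hχ⟩ hpos⟩
  rintro ⟨χ, hχ, hpos⟩
  set a : B := ⟨χ, hχ⟩
  have hd3 : 3 ≤ d := by have := hbound a hpos; have : 1 ≤ h a := hpos; omega
  set Z := Finset.univ.filter fun b : B => h b = 0
  set W := Finset.univ.filter fun b : B => ¬ h b = 0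
  set q : ℤ := (p : ℤ) ^ (2 * d - 2)
  have hn2 : n ^ 2 = (p : ℤ) ^ 2 * q := by
    simp only [n, q, ← pow_mul, ← pow_add]; congr 1; omega
  have hp2 : 0 < (p : ℤ) ^ 2 := by positivity
  -- height zero characters against `a`
  have hZ : (Z.card : ℤ) * (p : ℤ) ^ 2 ≤ m a a * (n - m a a) := by
    have haZ : a ∉ Z := by simp only [Z, Finset.mem_filter]; exact fun h => hpos.ne' h.2
    have h6 : m a a ^ 2 + ∑ b ∈ Z, m a b ^ 2 ≤ n * m a a := by
      rw [← h1 a, ← Finset.sum_insert haZ (f := fun b => m a b ^ 2)]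
      exact Finset.sum_le_univ_sum_of_nonneg fun b => sq_nonneg _
    have h7 : ∑ _b ∈ Z, (p : ℤ) ^ 2 ≤ ∑ b ∈ Z, m a b ^ 2 := by
      refine Finset.sum_le_sum fun b hb => ?_
      obtain ⟨k, hk⟩ := hd a b
      have hb0 : h b = 0 := (Finset.mem_filter.1 hb).2
      have hk0 : k ≠ 0 := fun h0 => hu a b hb0 (by rw [hk, h0, mul_zero]; exact dvd_zero _)
      rw [hk, mul_pow, ← pow_mul]
      have hk2 : 1 ≤ k ^ 2 := by
        have : 0 < k ^ 2 := by positivity
        omega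
      exact le_trans (pow_le_pow_right₀ hp1.le (by have : 1 ≤ h a := hpos; show 2 ≤ h a * 2; omega))
        (le_mul_of_one_le_right (by positivity) hk2)
    rw [Finset.sum_const, nsmul_eq_mul] at h7
    nlinarith
  -- positive heights against `o`
  have hW : (W.card : ℤ) * (p : ℤ) ^ 2 ≤ m o o * (n - m o o) := by
    have hoW : o ∉ W := by simp only [W, Finset.mem_filter]; exact fun h => h.2 hθ0
    have h6 : m o o ^ 2 + ∑ b ∈ W, m o b ^ 2 ≤ n * m o o := by
      rw [← h1 o, ← Finset.sum_insert hoW (f := fun b => m o b ^ 2)]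
      exact Finset.sum_le_univ_sum_of_nonneg fun b => sq_nonneg _
    have h7 : ∑ _b ∈ W, (p : ℤ) ^ 2 ≤ ∑ b ∈ W, m o b ^ 2 := by
      refine Finset.sum_le_sum fun b hb => le_trans ?_ (h3 b)
      rw [← pow_mul]
      exact pow_le_pow_right₀ hp1.le (by
        have : ¬ h b = 0 := (Finset.mem_filter.1 hb).2
        show 2 ≤ h b * 2
        omega)
    rw [Finset.sum_const, nsmul_eq_mul] at h7
    nlinarith
  have hcard : (Nat.card B : ℤ) = Z.card + W.card := by
    rw [Nat.card_eq_fintype_card, ← Nat.cast_add, Finset.card_filter_add_card_filter_not,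
      Finset.card_univ]
  have hq : ∀ x : ℤ, x * (n - x) * 4 ≤ n ^ 2 := fun x => by nlinarith [sq_nonneg (n - 2 * x)]
  have : 2 * (Nat.card B : ℤ) ≤ q := by
    refine le_of_mul_le_mul_left ?_ (show (0 : ℤ) < 2 * (p : ℤ) ^ 2 by linarith)
    nlinarith [hq (m a a), hq (m o o)]
  apply Int.ofNat_le.1
  push_cast
  exact this

end Cfsg.Agent.BC85
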