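import Cfsg.Agent.BC85.RegPart
import Cfsg.Agent.Lib.BlocksDefect.Pairing
import Cfsg.Agent.Lib.CharCore.Complete
import Cfsg.Agent.Lib.BlocksCore.DefectZero
import Mathlib.LinearAlgebra.Trace
import Mathlib.LinearAlgebra.Matrix.ToLin

/-!
# The contribution matrix of a block at the trivial subsection

`prj p χ ψ` is the inner product of the `p`-regular part of `χ` with `ψ`.  On a block `B` it is a
symmetric idempotent matrix of rank `blockRank p B`, and `p^d` times it (`d` the defect) has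
integer entries with known `p`-adic valuations.
-/

set_option autoImplicit false

namespace Cfsg.Agent.BC85

open BlocksCore BlocksDefect
open scoped ComplexConjugate

variable {G : Type*} [Group G] [Finite G] {p : ℕ} {M : Ideal Cfsg.AlgInt}

/-- The inner product of the `p`-regular part of `χ` with `ψ`. -/
noncomputable def prj (p : ℕ) (χ ψ : Cfsg.IrrCharacter G) : ℂ :=
  haveI := Fintype.ofFinite G
  Cfsg.classInner (Cfsg.pRegularPart p (χ : G → ℂ)) (ψ : G → ℂ)

theorem prj_def [Fintype G] (χ ψ : Cfsg.IrrCharacter G) :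
    prj p χ ψ = Cfsg.classInner (Cfsg.pRegularPart p (χ : G → ℂ)) (ψ : G → ℂ) := by
  unfold prj; congr 1; exact Subsingleton.elim _ _

theorem prj_eq_regPair (χ ψ : Cfsg.IrrCharacter G) :
    prj p χ ψ = (χ : G → ℂ) 1 * regPair p (χ : G → ℂ) ψ / Nat.card G := by
  haveI := Fintype.ofFinite G
  rw [prj_def, regPair, omega_eq_sum, mul_div_cancel₀ _ (irr_one_ne_zero χ), Cfsg.classInner,
    div_eq_inv_mul]
  congr 1
  refine Finset.sum_congr rfl fun x _ => ?_
  rw [conj_irr, regInv]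
  by_cases hx : p ∣ orderOf x
  · rw [if_pos hx, pRegularPart_neg hx, zero_mul, zero_mul]
  · rw [if_neg hx, pRegularPart_pos hx, mul_comm]

theorem prj_comm (χ ψ : Cfsg.IrrCharacter G) : prj p χ ψ = prj p ψ χ := by
  haveI := Fintype.ofFinite G
  rw [prj_eq_regPair, prj_eq_regPair, apply_one_mul_regPair]

theorem prj_eq_zero (hM : Cfsg.IsPModular p M) {χ ψ : Cfsg.IrrCharacter G}
    (h : ¬ Cfsg.SameBlock M (χ : G → ℂ) (ψ : G → ℂ)) : prj p χ ψ = 0 := by
  rw [prj_eq_regPair, regPair_eq_zero hM h, mul_zero, zero_div]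

theorem prj_eq_zero_of_notMem (hM : Cfsg.IsPModular p M) {B : Set (Cfsg.IrrCharacter G)}
    (hB : Cfsg.IsPBlock M B) {χ ψ : Cfsg.IrrCharacter G} (hχ : χ ∈ B) (hψ : ψ ∉ B) :
    prj p χ ψ = 0 := by
  have := isPrime hM
  refine prj_eq_zero hM fun h => hψ ?_
  rw [isPBlock_eq_blockOf hB hχ]
  exact h

/-- The `p`-regular part of a character expanded in irreducible characters. -/
theorem pRegularPart_eq_sum [Fintype (Cfsg.IrrCharacter G)] (χ : Cfsg.IrrCharacter G) (x : G) :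
    Cfsg.pRegularPart p (χ : G → ℂ) x = ∑ ψ, prj p χ ψ * (ψ : G → ℂ) x := by
  haveI := Fintype.ofFinite G
  have h := CharCore.eq_sum_classInner
    (isClassFunction_pRegularPart (p := p) (CharCore.irr_isClassFunction χ))
  conv_lhs => rw [h]
  simp only [Finset.sum_apply, Pi.smul_apply, smul_eq_mul, prj_def]
  exact Finset.sum_congr (Finset.ext fun _ => by simp) fun _ _ => rfl

theorem pRegularPart_eq_finsum (hM : Cfsg.IsPModular p M) {B : Set (Cfsg.IrrCharacter G)}
    (hB : Cfsg.IsPBlock M B) {χ : Cfsg.IrrCharacter G} (hχ : χ ∈ B) (x : G) :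
    Cfsg.pRegularPart p (χ : G → ℂ) x = ∑ᶠ ψ ∈ B, prj p χ ψ * (ψ : G → ℂ) x := by
  classical
  haveI := Fintype.ofFinite G
  haveI := finite_irr (G := G)
  haveI := Fintype.ofFinite (Cfsg.IrrCharacter G)
  rw [pRegularPart_eq_sum, finsum_mem_def, finsum_eq_sum_of_fintype]
  refine Finset.sum_congr rfl fun ψ _ => ?_
  by_cases hψ : ψ ∈ B
  · rw [Set.indicator_of_mem hψ]
  · rw [Set.indicator_of_notMem hψ, prj_eq_zero_of_notMem hM hB hχ hψ, zero_mul]

/-- The matrix `prj` is idempotent. -/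
theorem sum_prj_mul_prj [Fintype (Cfsg.IrrCharacter G)] (χ θ : Cfsg.IrrCharacter G) :
    ∑ ψ, prj p χ ψ * prj p ψ θ = prj p χ θ := by
  haveI := Fintype.ofFinite G
  simp only [prj_def (χ := χ) (ψ := θ), prj_def (ψ := θ), Cfsg.classInner, Finset.mul_sum]
  rw [Finset.sum_comm]
  refine Finset.sum_congr rfl fun x _ => ?_
  by_cases hx : p ∣ orderOf x
  · rw [pRegularPart_neg hx, zero_mul, mul_zero]
    exact Finset.sum_eq_zero fun ψ _ => by rw [pRegularPart_neg hx]; ring
  · rw [pRegularPart_eq_sum χ x, Finset.sum_mul, Finset.mul_sum]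
    refine Finset.sum_congr rfl fun ψ _ => ?_
    rw [pRegularPart_pos hx]; ring

/-- The rank of the block is the trace of the contribution matrix. -/
theorem blockRank_eq_sum (hM : Cfsg.IsPModular p M) {B : Set (Cfsg.IrrCharacter G)}
    (hB : Cfsg.IsPBlock M B) [Fintype B] :
    (Cfsg.blockRank p B : ℂ) = ∑ χ : B, prj p (χ : Cfsg.IrrCharacter G) χ := by
  classical
  haveI := Fintype.ofFinite G
  haveI := finite_irr (G := G)
  haveI := Fintype.ofFinite (Cfsg.IrrCharacter G)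
  haveI := Fintype.ofFinite G
  let P : Matrix B B ℂ := fun χ ψ => prj p (χ : Cfsg.IrrCharacter G) ψ
  let f : (B → ℂ) →ₗ[ℂ] (B → ℂ) := Matrix.toLin' P
  have hfv : ∀ (v : B → ℂ) (θ : B), f v θ = ∑ χ : B, prj p (θ : Cfsg.IrrCharacter G) χ * v χ :=
    fun v θ => rfl
  let E : (B → ℂ) →ₗ[ℂ] (G → ℂ) :=
    Fintype.linearCombination ℂ fun χ : B => Cfsg.pRegularPart p ((χ : Cfsg.IrrCharacter G) : G → ℂ)
  have hres : ∀ {χ : B} (h : Cfsg.IrrCharacter G → ℂ),
      ∑ ψ, prj p (χ : Cfsg.IrrCharacter G) ψ * h ψ =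
        ∑ ψ : B, prj p (χ : Cfsg.IrrCharacter G) ψ * h ψ := by
    intro χ h
    rw [← Finset.sum_subset (Finset.subset_univ B.toFinset) fun ψ _ hψ => by
      rw [prj_eq_zero_of_notMem hM hB χ.2 (by simpa using hψ), zero_mul]]
    exact (Finset.sum_set_coe B).symm
  have hP : P * P = P := by
    ext χ θ
    rw [Matrix.mul_apply]
    exact (hres fun ψ => prj p ψ θ).symm.trans (sum_prj_mul_prj _ _)
  have hf : f ∘ₗ f = f := by rw [← Matrix.toLin'_mul, hP]
  have hproj : LinearMap.IsProj (LinearMap.range f) f := by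
    refine ⟨fun v => LinearMap.mem_range_self f v, ?_⟩
    rintro _ ⟨v, rfl⟩
    exact LinearMap.congr_fun hf v
  have hker : LinearMap.ker E = LinearMap.ker f := by
    ext v
    simp only [LinearMap.mem_ker]
    have hEv : E v = fun x => ∑ θ : B, f v θ * ((θ : Cfsg.IrrCharacter G) : G → ℂ) x := by
      funext x
      simp only [E, Fintype.linearCombination_apply, Finset.sum_apply, Pi.smul_apply, smul_eq_mul,
        hfv, Finset.sum_mul]
      rw [Finset.sum_comm]
      refine Finset.sum_congr rfl fun χ _ => ?_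
      rw [pRegularPart_eq_sum, hres (fun ψ => (ψ : G → ℂ) x), Finset.mul_sum]
      refine Finset.sum_congr rfl fun θ _ => ?_
      rw [prj_comm]; ring
    constructor
    · intro h
      funext θ
      have h2 : Cfsg.classInner (E v) ((θ : Cfsg.IrrCharacter G) : G → ℂ) = f v θ := by
        rw [hEv]
        have h3 : (fun x => ∑ η : B, f v η * ((η : Cfsg.IrrCharacter G) : G → ℂ) x) =
            ∑ η : B, f v η • ((η : Cfsg.IrrCharacter G) : G → ℂ) := by
          funext x; simp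
        rw [h3, CharCore.classInner_sum_left, Finset.sum_eq_single θ]
        · rw [CharCore.classInner_smul_left, CharCore.classInner_irr_self, mul_one]
        · intro η _ hη
          rw [CharCore.classInner_smul_left,
            CharCore.classInner_irr_of_ne (fun he => hη (Subtype.ext he)), mul_zero]
        · exact fun h => absurd (Finset.mem_univ _) h
      rw [← h2, h]
      simp [Cfsg.classInner]
    · intro h
      rw [hEv, h]
      funext x
      simp
  have hrange : Module.finrank ℂ (LinearMap.range f) = Module.finrank ℂ (LinearMap.range E) := by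
    have h1 := LinearMap.finrank_range_add_finrank_ker f
    have h2 := LinearMap.finrank_range_add_finrank_ker E
    rw [hker] at h2
    omega
  have hspan : LinearMap.range E = Submodule.span ℂ
      ((fun χ : Cfsg.IrrCharacter G => Cfsg.pRegularPart p (χ : G → ℂ)) '' B) := by
    rw [Fintype.range_linearCombination]
    congr 1
    ext u
    simp
  rw [Cfsg.blockRank, ← hspan, ← hrange, ← hproj.trace, Matrix.trace_toLin'_eq]
  rfl

theorem dvd_of_eq_pow_mul (hM : Cfsg.IsPModular p M) : ∀ {b : ℕ} {z : ℤ} {r : ℂ},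
    Cfsg.MemLocalRing M r → (z : ℂ) = (p : ℂ) ^ b * r →
      (p : ℤ) ^ b ∣ z ∧ ((p : ℤ) ^ (b + 1) ∣ z ↔ Cfsg.MemLocalIdeal M r) := by
  have := isPrime hM
  intro b
  induction b with
  | zero =>
    intro z r _ h
    rw [pow_zero, one_mul] at h
    exact ⟨one_dvd _, by rw [zero_add, pow_one, ← h]; exact (memLocalIdeal_intCast_iff hM z).symm⟩
  | succ b ih =>
    intro z r hr h
    have hpr : Cfsg.MemLocalIdeal M ((p : ℂ) * r) :=
      memLocalIdeal_mul_right ((memLocalIdeal_natCast_iff hM p).2 dvd_rfl) hr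
    obtain ⟨-, h2⟩ := ih (memLocalRing_of_memLocalIdeal hpr) (by rw [h, pow_succ, mul_assoc])
    obtain ⟨z', rfl⟩ := h2.2 hpr
    refine ⟨dvd_mul_right _ _, ?_⟩
    have hp0 : ((p : ℤ) ^ (b + 1)) ≠ 0 := pow_ne_zero _ (by exact_mod_cast hM.1.ne_zero)
    have hz : (z' : ℂ) = r := by
      push_cast at h
      exact mul_left_cancel₀ (pow_ne_zero _ (by exact_mod_cast hM.1.ne_zero)) h
    rw [pow_succ (p : ℤ) (b + 1), mul_dvd_mul_iff_left hp0, ← hz]
    exact (memLocalIdeal_intCast_iff hM z').symm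

section Block

variable [Fact p.Prime] {B : Set (Cfsg.IrrCharacter G)}

theorem sInf_le_degree {χ : Cfsg.IrrCharacter G} (hχ : χ ∈ B) :
    sInf ((fun χ : Cfsg.IrrCharacter G => (Cfsg.charDegree (χ : G → ℂ)).factorization p) '' B) ≤
      (Cfsg.charDegree (χ : G → ℂ)).factorization p :=
  Nat.sInf_le ⟨χ, hχ, rfl⟩

theorem degree_factorization_le (χ : Cfsg.IrrCharacter G) :
    (Cfsg.charDegree (χ : G → ℂ)).factorization p ≤ (Nat.card G).factorization p :=
  haveI := Fintype.ofFinite G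
  (Nat.factorization_le_iff_dvd (charDegree_pos χ).ne' Nat.card_pos.ne').2 (charDegree_dvd_card χ) p

/-- `p^d` times the matrix `prj` is integral, with known valuations. -/
theorem exists_contrib (hM : Cfsg.IsPModular p M) (hB : Cfsg.IsPBlock M B)
    {χ : Cfsg.IrrCharacter G} (hχ : χ ∈ B) (ψ : Cfsg.IrrCharacter G) :
    ∃ m : ℤ, (m : ℂ) = (p : ℂ) ^ Cfsg.blockDefect p B * prj p χ ψ ∧
      (p : ℤ) ^ Cfsg.blockHeight p B (χ : G → ℂ) ∣ m ∧
      ((p : ℤ) ^ (Cfsg.blockHeight p B (χ : G → ℂ) + 1) ∣ m ↔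
        ¬ (ψ ∈ B ∧ Cfsg.blockHeight p B (ψ : G → ℂ) = 0)) := by
  have := isPrime hM
  haveI := Fintype.ofFinite G
  obtain ⟨z, hz⟩ := CharCore.IsGeneralizedCharacter.exists_classInner_irr_eq_intCast
    (isGeneralized_regPart (p := p) (CharCore.irr_isCharacter χ)) ψ
  set a := (Nat.card G).factorization p with ha
  set s := sInf ((fun χ : Cfsg.IrrCharacter G =>
    (Cfsg.charDegree (χ : G → ℂ)).factorization p) '' B) with hs
  set b := (Cfsg.charDegree (χ : G → ℂ)).factorization p with hb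
  have hsb : s ≤ b := sInf_le_degree hχ
  have hba : b ≤ a := degree_factorization_le χ
  have hz' : (z : ℂ) = (p : ℂ) ^ a * prj p χ ψ := by
    rw [← hz, prj_def]
    rw [show (fun x : G => ((p ^ a : ℕ) : ℂ) * Cfsg.pRegularPart p (χ : G → ℂ) x) =
      ((p ^ a : ℕ) : ℂ) • Cfsg.pRegularPart p (χ : G → ℂ) from rfl, CharCore.classInner_smul_left,
      Nat.cast_pow]
  set c := Cfsg.charDegree (χ : G → ℂ) / p ^ b
  set n' := Nat.card G / p ^ a
  have hcd : ((χ : G → ℂ) 1) = (p : ℂ) ^ b * (c : ℂ) := by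
    rw [irr_one_eq, ← Nat.cast_pow, ← Nat.cast_mul, Nat.ordProj_mul_ordCompl_eq_self]
  have hnd : (Nat.card G : ℂ) = (p : ℂ) ^ a * (n' : ℂ) := by
    rw [← Nat.cast_pow, ← Nat.cast_mul, Nat.ordProj_mul_ordCompl_eq_self]
  have hn' : ¬ p ∣ n' := Nat.not_dvd_ordCompl hM.1 Nat.card_pos.ne'
  have hc : ¬ p ∣ c := Nat.not_dvd_ordCompl hM.1 (charDegree_pos χ).ne'
  set r := (c : ℂ) * regPair p (χ : G → ℂ) ψ * (n' : ℂ)⁻¹ with hr
  have hrloc : Cfsg.MemLocalRing M r :=
    (localRing M).mul_mem ((localRing M).mul_mem (memLocalRing_natCast c)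
      (regPair_memLocalRing χ ψ)) (memLocalRing_natCast_inv hM hn')
  have hp0 : (p : ℂ) ≠ 0 := by exact_mod_cast hM.1.ne_zero
  have hzr : (z : ℂ) = (p : ℂ) ^ b * r := by
    rw [hz', prj_eq_regPair, hcd, hnd, hr]
    field_simp
  obtain ⟨h1, h2⟩ := dvd_of_eq_pow_mul hM hrloc hzr
  have hrI : Cfsg.MemLocalIdeal M r ↔ Cfsg.MemLocalIdeal M (regPair p (χ : G → ℂ) ψ) := by
    constructor
    · intro h
      have h3 := memLocalIdeal_mul_left (memLocalRing_natCast n') (M := M) h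
      rw [hr, mul_comm (n' : ℂ), mul_assoc,
        inv_mul_cancel₀ (Nat.cast_ne_zero.2 fun h0 : n' = 0 => hn' (by rw [h0]; exact dvd_zero p)), mul_one] at h3
      exact (memLocalIdeal_mem_or_mem (memLocalRing_natCast c) (regPair_memLocalRing χ ψ) h3).resolve_left
        fun h4 => hc ((memLocalIdeal_natCast_iff hM c).1 h4)
    · intro h
      exact memLocalIdeal_mul_right (memLocalIdeal_mul_left (memLocalRing_natCast c) h)
        (memLocalRing_natCast_inv hM hn')
  have hd : Cfsg.blockDefect p B = a - s := rfl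
  have hh : Cfsg.blockHeight p B (χ : G → ℂ) = b - s := rfl
  obtain ⟨m, hm⟩ := (pow_dvd_pow (p : ℤ) hsb).trans h1
  have hps : ((p : ℤ) ^ s) ≠ 0 := pow_ne_zero _ (by exact_mod_cast hM.1.ne_zero)
  refine ⟨m, ?_, ?_, ?_⟩
  · rw [hd]
    apply mul_left_cancel₀ (pow_ne_zero s hp0)
    rw [← mul_assoc, ← pow_add, Nat.add_sub_cancel' (hsb.trans hba), ← hz', hm]
    push_cast
    rfl
  · rw [hh, ← mul_dvd_mul_iff_left hps, ← pow_add, Nat.add_sub_cancel' hsb, ← hm]
    exact h1
  · rw [hh, ← mul_dvd_mul_iff_left hps, ← pow_add, ← add_assoc, Nat.add_sub_cancel' hsb, ← hm, h2,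
      hrI, ← regPair_unit_iff_mem hM hB (θ := ψ) hχ, not_not]

/-- The contribution matrix, as an integer matrix. -/
theorem exists_matrix (hM : Cfsg.IsPModular p M) (hB : Cfsg.IsPBlock M B) [Fintype B] :
    ∃ m : B → B → ℤ,
      (∀ χ ψ : B, (m χ ψ : ℂ) = (p : ℂ) ^ Cfsg.blockDefect p B *
        prj p (χ : Cfsg.IrrCharacter G) ψ) ∧
      (∀ χ ψ : B, m χ ψ = m ψ χ) ∧
      (∀ χ θ : B, ∑ ψ : B, m χ ψ * m ψ θ = (p : ℤ) ^ Cfsg.blockDefect p B * m χ θ) ∧
      (∀ χ ψ : B, (p : ℤ) ^ Cfsg.blockHeight p B ((χ : Cfsg.IrrCharacter G) : G → ℂ) ∣ m χ ψ) ∧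
      (∀ χ ψ : B, Cfsg.blockHeight p B ((ψ : Cfsg.IrrCharacter G) : G → ℂ) = 0 →
        ¬ (p : ℤ) ^ (Cfsg.blockHeight p B ((χ : Cfsg.IrrCharacter G) : G → ℂ) + 1) ∣ m χ ψ) ∧
      (∀ χ ψ : B, 0 < Cfsg.blockHeight p B ((ψ : Cfsg.IrrCharacter G) : G → ℂ) →
        (p : ℤ) ^ (Cfsg.blockHeight p B ((χ : Cfsg.IrrCharacter G) : G → ℂ) + 1) ∣ m χ ψ) := by
  classical
  haveI := Fintype.ofFinite G
  haveI := finite_irr (G := G)
  haveI := Fintype.ofFinite (Cfsg.IrrCharacter G)
  choose m h1 h2 h3 using fun χ ψ : B =>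
    exists_contrib hM hB χ.2 (ψ : Cfsg.IrrCharacter G)
  refine ⟨m, h1, fun χ ψ => ?_, fun χ θ => ?_, h2, fun χ ψ h hd => ?_, fun χ ψ h => ?_⟩
  · apply Int.cast_injective (α := ℂ)
    rw [h1, h1, prj_comm]
  · apply Int.cast_injective (α := ℂ)
    push_cast
    simp only [h1]
    rw [← sum_prj_mul_prj (χ : Cfsg.IrrCharacter G) θ, Finset.mul_sum, Finset.mul_sum,
      ← Finset.sum_subset (Finset.subset_univ B.toFinset) fun ψ _ hψ => by
        rw [prj_eq_zero_of_notMem hM hB χ.2 (by simpa using hψ)]; ring,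
      ← Finset.sum_set_coe B]
    refine Finset.sum_congr rfl fun ψ _ => ?_
    ring
  · exact (h3 χ ψ).1 hd ⟨ψ.2, h⟩
  · exact (h3 χ ψ).2 fun hc => h.ne' hc.2

end Block

end Cfsg.Agent.BC85
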