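import Cfsg.Agent.BC85.Basic
import Mathlib.GroupTheory.Index

set_option autoImplicit false
open scoped Pointwise

namespace Cfsg.Agent.BC85

variable {G : Type*} [Group G] [Finite G] {p : ℕ} [Fact p.Prime]

/-- The join of the normal subgroups with a property preserved by automorphisms is characteristic. -/
theorem sSup_normal_characteristic {Φ : Subgroup G → Prop}
    (hΦ : ∀ (M : Subgroup G) (φ : G ≃* G), Φ M → Φ (M.map φ.toMonoidHom)) :
    (sSup {M : Subgroup G | M.Normal ∧ Φ M}).Characteristic := by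
  rw [Subgroup.characteristic_iff_map_le]
  intro φ
  rw [Subgroup.map_le_iff_le_comap]
  refine sSup_le ?_
  rintro M ⟨h1, h2⟩
  rw [← Subgroup.map_le_iff_le_comap]
  exact le_sSup ⟨h1.map _ φ.surjective, hΦ M φ h2⟩

/-- A normal `p`-subgroup is contained in every Sylow `p`-subgroup. -/
theorem normal_pgroup_le_sylow (S : Sylow p G) {M : Subgroup G} (hM : M.Normal)
    (hp : IsPGroup p M) : M ≤ (S : Subgroup G) := by
  obtain ⟨T, hT⟩ := hp.exists_le_sylow
  obtain ⟨g, rfl⟩ := MulAction.exists_smul_eq G T S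
  intro m hm
  rw [Sylow.coe_subgroup_smul, Subgroup.mem_pointwise_smul_iff_inv_smul_mem]
  apply hT
  rw [← map_inv, MulAut.smul_def, MulAut.conj_apply]
  exact hM.conj_mem m hm _

/-- If `G` has no non-trivial normal `p`-subgroup, neither has a normal subgroup of `G`. -/
theorem no_normal_pgroup_of_normal
    (h : ∀ M : Subgroup G, M.Normal → IsPGroup p M → M = ⊥) (N : Subgroup G) [N.Normal]
    (R : Subgroup N) (hR : R.Normal) (hRp : IsPGroup p R) : R = ⊥ := by
  set K : Subgroup N := sSup {M : Subgroup N | M.Normal ∧ IsPGroup p M} with hK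
  haveI : K.Characteristic :=
    sSup_normal_characteristic (Φ := fun M : Subgroup N => IsPGroup p M) (fun _ _ h2 => h2.map _)
  have hKp : IsPGroup p K := by
    obtain ⟨S⟩ : Nonempty (Sylow p N) := inferInstance
    exact S.2.to_le (sSup_le fun M hM => normal_pgroup_le_sylow S hM.1 hM.2)
  have h0 : K.map N.subtype = ⊥ := h _ inferInstance (hKp.map _)
  rw [Subgroup.map_eq_bot_iff_of_injective _ N.subtype_injective] at h0
  have hle : R ≤ K := le_sSup ⟨hR, hRp⟩
  exact le_bot_iff.1 (h0 ▸ hle)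

/-- The join of two normal subgroups of order prime to `p` has order prime to `p`. -/
theorem not_dvd_card_sup {A B : Subgroup G} [A.Normal] [B.Normal]
    (h1 : ¬ p ∣ Nat.card A) (h2 : ¬ p ∣ Nat.card B) : ¬ p ∣ Nat.card (A ⊔ B : Subgroup G) := by
  intro hdd
  have h3 : p ∣ Nat.card A * Nat.card B := by
    refine hdd.trans ?_
    have h4 := Subgroup.relIndex_mul_relIndex ⊥ B (A ⊔ B) bot_le le_sup_right
    rw [Subgroup.relIndex_bot_left, Subgroup.relIndex_bot_left, Subgroup.relIndex_sup_right] at h4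
    rw [← h4, mul_comm]
    exact mul_dvd_mul (Subgroup.relIndex_dvd_card _ _) dvd_rfl
  exact ((Nat.Prime.dvd_mul Fact.out).1 h3).elim h1 h2

/-- The join of all normal subgroups of order prime to `p` has order prime to `p`. -/
theorem not_dvd_card_sSup_normal :
    ¬ p ∣ Nat.card (sSup {M : Subgroup G | M.Normal ∧ ¬ p ∣ Nat.card M} : Subgroup G) := by
  obtain ⟨W, ⟨hWn, hWc⟩, hWmax⟩ := Set.Finite.exists_maximal
    (Set.toFinite {M : Subgroup G | M.Normal ∧ ¬ p ∣ Nat.card M})
    ⟨⊥, inferInstance, by simpa using (Fact.out : p.Prime).not_dvd_one⟩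
  haveI := hWn
  have hle : sSup {M : Subgroup G | M.Normal ∧ ¬ p ∣ Nat.card M} ≤ W := by
    refine sSup_le ?_
    rintro M ⟨hM1, hM2⟩
    haveI := hM1
    exact le_sup_left.trans
      (hWmax (y := M ⊔ W) ⟨inferInstance, not_dvd_card_sup hM2 hWc⟩ le_sup_right)
  exact fun h => hWc (h.trans (Subgroup.card_dvd_of_le hle))

/-- If `p` divides the order of every non-trivial normal subgroup of `G`, the same holds for a
normal subgroup of `G`. -/
theorem dvd_card_normal_of_normal
    (h : ∀ M : Subgroup G, M.Normal → M ≠ ⊥ → p ∣ Nat.card M) (N : Subgroup G) [N.Normal]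
    (R : Subgroup N) (hR : R.Normal) (hR1 : R ≠ ⊥) : p ∣ Nat.card R := by
  by_contra hd
  set W : Subgroup N := sSup {M : Subgroup N | M.Normal ∧ ¬ p ∣ Nat.card M} with hW
  haveI : W.Characteristic :=
    sSup_normal_characteristic (Φ := fun M : Subgroup N => ¬ p ∣ Nat.card M) (fun M φ h2 => by
      rwa [Subgroup.card_map_of_injective φ.injective])
  have hWc : ¬ p ∣ Nat.card W := not_dvd_card_sSup_normal
  have hle : R ≤ W := le_sSup ⟨hR, hd⟩
  refine hWc ?_
  rw [← Subgroup.card_map_of_injective (K := W) N.subtype_injective]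
  exact h _ inferInstance (fun h0 => hR1 (by
    rw [Subgroup.map_eq_bot_iff_of_injective _ N.subtype_injective] at h0
    exact le_bot_iff.1 (h0 ▸ hle)))

/-- A Sylow subgroup of `G` meets a normal subgroup in a Sylow subgroup of it. -/
theorem exists_sylow_subgroupOf (P : Sylow p G) (N : Subgroup G) [N.Normal] :
    ∃ S : Sylow p N, (S : Subgroup N) = (P : Subgroup G).subgroupOf N := by
  obtain ⟨S0⟩ : Nonempty (Sylow p N) := inferInstance
  obtain ⟨T, hT⟩ := (S0.2.map N.subtype).exists_le_sylow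
  obtain ⟨g, hg⟩ := MulAction.exists_smul_eq G T P
  have hPp : IsPGroup p ((P : Subgroup G).subgroupOf N) := P.2.comap_subtype
  obtain ⟨S, hS⟩ := hPp.exists_le_sylow
  refine ⟨S, (Subgroup.eq_of_le_of_card_ge hS ?_).symm⟩
  -- the conjugate of `S0` by `g` lies in `P` and in `N`
  have h1 : (S0 : Subgroup N).map (MulAut.conjNormal (H := N) g).toMonoidHom ≤
      (P : Subgroup G).subgroupOf N := by
    rintro _ ⟨n, hn, rfl⟩
    rw [Subgroup.mem_subgroupOf, ← hg, Sylow.coe_subgroup_smul,
      Subgroup.mem_pointwise_smul_iff_inv_smul_mem, ← map_inv, MulAut.smul_def, MulAut.conj_apply]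
    have : (n : G) ∈ (T : Subgroup G) := hT ⟨n, hn, rfl⟩
    simpa [mul_assoc] using this
  have h2 := Subgroup.card_le_of_le h1
  have h3 : Nat.card ((S0 : Subgroup N).map (MulAut.conjNormal (H := N) g).toMonoidHom) =
      Nat.card (S0 : Subgroup N) :=
    Subgroup.card_map_of_injective (MulAut.conjNormal (H := N) g).injective
  rw [h3] at h2
  calc Nat.card (S : Subgroup N) = Nat.card (S0 : Subgroup N) := by
        rw [Sylow.card_eq_multiplicity, Sylow.card_eq_multiplicity]
    _ ≤ _ := h2

/-- A Sylow subgroup meets a normal subgroup of order divisible by `p` non-trivially. -/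
theorem exists_mem_sylow_inf_normal (P : Sylow p G) (N : Subgroup G) [N.Normal]
    (h : p ∣ Nat.card N) : ∃ x ∈ (P : Subgroup G), x ∈ N ∧ x ≠ 1 := by
  obtain ⟨S, hS⟩ := exists_sylow_subgroupOf P N
  obtain ⟨x, hx, hx1⟩ := (S : Subgroup N).bot_or_exists_ne_one.resolve_left (S.ne_bot_of_dvd_card h)
  rw [hS, Subgroup.mem_subgroupOf] at hx
  exact ⟨x, hx, x.2, fun h1 => hx1 (Subtype.ext h1)⟩

end Cfsg.Agent.BC85
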