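import Cfsg.Prelude.Def_BlockRank
import Cfsg.Agent.Lib.CharInd.Brauer
import Cfsg.Agent.Lib.CharCore.Virtual
import Mathlib.GroupTheory.Transfer

/-!
# The `p`-regular part of a character, times the `p`-part of the order, is a generalised character
-/

set_option autoImplicit false

namespace Cfsg.Agent.BC85

open scoped BigOperators

variable {G : Type*} [Group G] [Finite G] {p : ℕ} [hp : Fact p.Prime]

omit [Finite G] hp in
theorem pRegularPart_pos {χ : G → ℂ} {x : G} (hx : ¬ p ∣ orderOf x) :
    Cfsg.pRegularPart p χ x = χ x := by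
  unfold Cfsg.pRegularPart; exact if_pos hx

omit [Finite G] hp in
theorem pRegularPart_neg {χ : G → ℂ} {x : G} (hx : p ∣ orderOf x) :
    Cfsg.pRegularPart p χ x = 0 := by
  unfold Cfsg.pRegularPart; exact if_neg (not_not.2 hx)

omit [Finite G] hp in
theorem isClassFunction_pRegularPart {χ : G → ℂ} (hχ : Cfsg.IsClassFunction G χ) :
    Cfsg.IsClassFunction G (Cfsg.pRegularPart p χ) := by
  intro g h
  have ho : orderOf (h * g * h⁻¹) = orderOf g := by rw [← MulAut.conj_apply, MulEquiv.orderOf_eq]
  by_cases hg : p ∣ orderOf g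
  · rw [pRegularPart_neg hg, pRegularPart_neg (ho ▸ hg)]
  · rw [pRegularPart_pos hg, pRegularPart_pos (ho ▸ hg), hχ g h]

/-- In an elementary group the `p`-regular elements form a normal subgroup of `p`-power index
equal to the `p`-part of the order. -/
theorem exists_regular_subgroup {q : ℕ} (hq : q.Prime) {E : Type*} [Group E] [Finite E]
    (hE : Cfsg.IsElementary q E) :
    ∃ K : Subgroup E, K.Normal ∧ K.index = p ^ (Nat.card E).factorization p ∧
      ∀ x : E, x ∈ K ↔ ¬ p ∣ orderOf x := by
  obtain ⟨z, hz, hzq, k, hk⟩ := hE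
  set v := (Nat.card E).factorization p with hv
  -- it suffices to find a normal subgroup without `p`-singular elements, of `p`-power index
  suffices h : ∃ K : Subgroup E, K.Normal ∧ (∀ x, x ∈ K ↔ ¬ p ∣ orderOf x) ∧
      ∃ j, K.index = p ^ j by
    obtain ⟨K, hKn, hKm, j, hj⟩ := h
    refine ⟨K, hKn, ?_, hKm⟩
    have hnd : ¬ p ∣ Nat.card K := fun h => by
      obtain ⟨x, hx⟩ := exists_prime_orderOf_dvd_card' (G := K) p h
      exact (hKm _).1 x.2 (by rw [Subgroup.orderOf_coe, hx])
    have h2 : (Nat.card E).factorization p =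
        (Nat.card K).factorization p + K.index.factorization p := by
      rw [← K.card_mul_index,
        Nat.factorization_mul Nat.card_pos.ne' Subgroup.FiniteIndex.index_ne_zero]
      rfl
    rw [hj, Nat.factorization_eq_zero_of_not_dvd hnd, hp.out.factorization_pow,
      Finsupp.single_eq_same, zero_add, ← hv] at h2
    rw [hj, h2]
  have hzle : Subgroup.zpowers z ≤ Subgroup.center E := Subgroup.zpowers_le.2 hz
  have hzn : (Subgroup.zpowers z).Normal :=
    ⟨fun a ha b => by
      have := Subgroup.mem_center_iff.1 (hzle ha) b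
      rw [this, mul_inv_cancel_right]; exact ha⟩
  by_cases hqp : q = p
  · subst hqp
    refine ⟨Subgroup.zpowers z, hzn, fun x => ⟨fun hx h => ?_, fun hx => ?_⟩, k, hk⟩
    · obtain ⟨n, rfl⟩ := Subgroup.mem_zpowers_iff.1 hx
      exact (hq.coprime_iff_not_dvd).1 hzq.symm (h.trans (orderOf_dvd_of_mem_zpowers hx))
    · haveI := hzn
      have h1 : orderOf (QuotientGroup.mk' (Subgroup.zpowers z) x) ∣ orderOf x :=
        orderOf_map_dvd _ x
      have h2 : orderOf (QuotientGroup.mk' (Subgroup.zpowers z) x) ∣ q ^ k := by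
        rw [← hk, Subgroup.index_eq_card]; exact orderOf_dvd_natCard _
      have h3 : Nat.Coprime (orderOf x) (q ^ k) :=
        Nat.Coprime.pow_right k ((hq.coprime_iff_not_dvd).2 hx).symm
      exact (QuotientGroup.eq_one_iff x).1
        (orderOf_eq_one_iff.1 (Nat.eq_one_of_dvd_coprimes h3 h1 h2))
  · -- the index of the centre is prime to `p`
    have hi : ¬ p ∣ (Subgroup.center E).index := fun h => by
      have := h.trans (hk ▸ Subgroup.index_dvd_of_le hzle)
      exact hqp ((Nat.prime_dvd_prime_iff_eq hp.out hq).1 (hp.out.dvd_of_dvd_pow this)).symm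
    set i := (Subgroup.center E).index
    set m := Nat.card E / p ^ v
    have hm : ¬ p ∣ m := Nat.not_dvd_ordCompl hp.out Nat.card_pos.ne'
    let φ : E →* Subgroup.center E :=
      ({ toFun := fun c => c ^ m
         map_one' := one_pow m
         map_mul' := fun a b =>
           Commute.mul_pow (Subtype.ext (Subgroup.mem_center_iff.1 b.2 (a : E))) m } :
          Subgroup.center E →* Subgroup.center E).comp
        (MonoidHom.transferCenterPow (G := E))
    have hφ : ∀ x, (φ x : E) = x ^ (i * m) := fun x => by
      show ((x ^ i) ^ m : E) = x ^ (i * m)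
      rw [pow_mul]
    refine ⟨φ.ker, inferInstance, fun x => ?_, ?_⟩
    · rw [MonoidHom.mem_ker, ← Subtype.coe_inj, hφ, OneMemClass.coe_one, ← orderOf_dvd_iff_pow_eq_one]
      constructor
      · exact fun h hd => ((Nat.Prime.dvd_mul hp.out).1 (hd.trans h)).elim hi hm
      · intro hx
        refine dvd_mul_of_dvd_right ?_ i
        have h1 : orderOf x ∣ p ^ v * m := by
          rw [Nat.ordProj_mul_ordCompl_eq_self]; exact orderOf_dvd_natCard x
        exact (Nat.Coprime.pow_right v ((hp.out.coprime_iff_not_dvd).2 hx).symm).dvd_of_dvd_mul_left h1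
    · rw [Subgroup.index_ker]
      have hP : IsPGroup p φ.range := by
        intro y
        obtain ⟨x, hx⟩ := y.2
        refine ⟨v, Subtype.ext ?_⟩
        rw [SubmonoidClass.coe_pow, ← hx, OneMemClass.coe_one]
        show ((MonoidHom.transferCenterPow (G := E) x) ^ m) ^ p ^ v = 1
        rw [← pow_mul, mul_comm, Nat.ordProj_mul_ordCompl_eq_self]
        apply Subtype.ext
        rw [SubmonoidClass.coe_pow, OneMemClass.coe_one]
        exact pow_card_eq_one'
      exact IsPGroup.iff_card.1 hP

/-- `p^a` times the restriction of a character to the `p`-regular elements is a generalised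
character. -/
theorem isGeneralized_regPart {χ : G → ℂ} (hχ : Cfsg.IsCharacter G χ) :
    Cfsg.IsGeneralizedCharacter G
      (fun x : G => ((p ^ (Nat.card G).factorization p : ℕ) : ℂ) * Cfsg.pRegularPart p χ x) := by
  classical
  haveI := Fintype.ofFinite G
  refine CharInd.isGeneralizedCharacter_of_elementary ?_ fun E q hq hE => ?_
  · intro g h
    simp only [isClassFunction_pRegularPart (CharInd.isClassFunction_of_isCharacter hχ) g h]
  haveI : Fintype E := Fintype.ofFinite E
  obtain ⟨K, hKn, hKi, hKm⟩ := exists_regular_subgroup (p := p) hq hE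
  haveI := hKn
  haveI : Fintype K := Fintype.ofFinite K
  set v := (Nat.card E).factorization p with hv
  have hle : v ≤ (Nat.card G).factorization p :=
    (Nat.factorization_le_iff_dvd Nat.card_pos.ne' Nat.card_pos.ne').2 E.card_subgroup_dvd_card p
  have hind : ∀ e : E, Cfsg.indFun K (fun _ => (1 : ℂ)) e =
      if e ∈ K then ((p ^ v : ℕ) : ℂ) else 0 := by
    intro e
    rw [CharInd.indFun_apply]
    have hc : ∀ x : E, x⁻¹ * e * x ∈ K ↔ e ∈ K := fun x => by
      refine ⟨fun h => ?_, fun h => by simpa using hKn.conj_mem e h x⁻¹⟩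
      have := hKn.conj_mem _ h x
      simpa [mul_assoc] using this
    by_cases he : e ∈ K
    · rw [if_pos he, Finset.sum_congr rfl fun x _ => CharInd.extendByZero_mem _ ((hc x).2 he),
        Finset.sum_const, Finset.card_univ, nsmul_eq_mul, mul_one, Fintype.card_eq_nat_card,
        ← K.card_mul_index, hKi]
      push_cast
      rw [inv_mul_cancel_left₀ (Nat.cast_ne_zero.2 Nat.card_pos.ne')]
    · rw [if_neg he, Finset.sum_eq_zero, mul_zero]
      intro x _
      exact CharInd.extendByZero_notMem _ (fun h => he ((hc x).1 h))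
  have hone : Cfsg.IsCharacter K (fun _ => (1 : ℂ)) := by
    simpa using CharCore.isCharacter_natCast (G := K) 1
  have hfun : (fun e : E => ((p ^ (Nat.card G).factorization p : ℕ) : ℂ) *
        Cfsg.pRegularPart p χ e) =
      (((p ^ ((Nat.card G).factorization p - v) : ℕ)) : ℂ) •
        (Cfsg.indFun K (fun _ => (1 : ℂ)) * fun e : E => χ e) := by
    funext e
    simp only [Pi.smul_apply, Pi.mul_apply, smul_eq_mul, hind, Cfsg.pRegularPart, Cfsg.IsPRegular,
      Subgroup.orderOf_coe]
    by_cases he : p ∣ orderOf e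
    · rw [if_neg (not_not.2 he), if_neg (fun h => (hKm e).1 h he)]
      simp
    · rw [if_pos he, if_pos ((hKm e).2 he), ← mul_assoc, ← Nat.cast_mul, ← pow_add,
        Nat.sub_add_cancel hle]
  rw [hfun]
  exact CharCore.IsCharacter.isGeneralized (CharCore.isCharacter_natCast_smul
    (CharInd.isCharacter_mul (CharInd.isCharacter_indFun K hone)
      (CharInd.isCharacter_restrict hχ E)) _)

end Cfsg.Agent.BC85
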